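import Mathlib.Algebra.Homology.QuasiIso
import Mathlib.Algebra.Homology.ShortComplex.PreservesHomology
import Groth.Agent.DerLib.KInjDerived

/-!
# When is the counit `G Γ J → J` a quasi-isomorphism?
-/

set_option autoImplicit false

universe v v' u u'

open CategoryTheory CategoryTheory.Limits Groth.Agent.DerLib.KInjDerived

namespace TildeDerLib

variable {A : Type u} [Category.{v} A] [Abelian A] {B : Type u'} [Category.{v'} B] [Abelian B]
  {G : B ⥤ A} {Γ : A ⥤ B} (adj : G ⊣ Γ) [G.Additive] [Γ.Additive]
  [PreservesFiniteLimits G] [PreservesFiniteColimits G]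

/-- A cokernel cofork of an equal morphism. -/
def isColimitOfEq {C : Type u} [Category.{v} C] [HasZeroMorphisms C] {X Y Z : C} {f f' : X ⟶ Y}
    (h : f = f') {π : Y ⟶ Z} {w : f ≫ π = 0} {w' : f' ≫ π = 0}
    (hc : IsColimit (CokernelCofork.ofπ π w)) : IsColimit (CokernelCofork.ofπ π w') := by
  subst h
  exact hc

/-- The counit is a quasi-isomorphism in degree `m` when `Γ` preserves the presentation of the
cohomology and the counit is an isomorphism on the cohomology object. -/
theorem quasiIsoAt_counit (J : CochainComplex A ℤ) (m : ℤ)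
    (hex : (ShortComplex.mk (Γ.map (J.toCycles (m - 1) m)) (Γ.map (J.homologyπ m))
      (by rw [← Γ.map_comp, J.toCycles_comp_homologyπ, Γ.map_zero])).Exact)
    (hepi : Epi (Γ.map (J.homologyπ m))) [hiso : IsIso (adj.counit.app (J.homology m))] :
    QuasiIsoAt ((mapHomologicalComplexAdj adj (ComplexShape.up ℤ)).counit.app J) m := by
  haveI : PreservesLimitsOfSize.{0, 0} Γ := adj.rightAdjoint_preservesLimits
  let S : ShortComplex A := J.sc' (m - 1) m (m + 1)
  let hi : IsLimit (KernelFork.ofι (J.iCycles m) (J.iCycles_d m (m + 1))) :=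
    J.cyclesIsKernel m (m + 1) (by simp)
  have hf' : hi.lift (KernelFork.ofι S.f S.zero) = J.toCycles (m - 1) m :=
    (cancel_mono (J.iCycles m)).1 ((Fork.IsLimit.lift_ι hi).trans (J.toCycles_i _ _).symm)
  let h : S.LeftHomologyData :=
    { K := J.cycles m
      H := J.homology m
      i := J.iCycles m
      π := J.homologyπ m
      wi := J.iCycles_d m (m + 1)
      hi := hi
      wπ := by
        have := J.toCycles_comp_homologyπ (m - 1) m
        rw [← hf'] at this
        exact this
      hπ := isColimitOfEq hf'.symm (J.homologyIsCokernel (m - 1) m (by simp)) }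
  have hh : h.f' = J.toCycles (m - 1) m := hf'
  haveI : PreservesColimit (parallelPair h.f' 0) Γ := by
    rw [hh]
    refine preservesColimit_of_preserves_colimit_cocone (J.homologyIsCokernel (m - 1) m (by simp)) ?_
    haveI := hepi
    exact (CokernelCofork.isColimitMapCoconeEquiv _ Γ).symm hex.gIsCokernel
  haveI : h.IsPreservedBy (Γ ⋙ G) :=
    { g := inferInstance
      f' := comp_preservesColimit _ _ }
  let φ : S.map (Γ ⋙ G) ⟶ S :=
    { τ₁ := adj.counit.app S.X₁
      τ₂ := adj.counit.app S.X₂
      τ₃ := adj.counit.app S.X₃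
      comm₁₂ := (adj.counit.naturality S.f).symm
      comm₂₃ := (adj.counit.naturality S.g).symm }
  let γ : ShortComplex.LeftHomologyMapData φ (h.map (Γ ⋙ G)) h :=
    { φK := adj.counit.app h.K
      φH := adj.counit.app h.H
      commi := (adj.counit.naturality h.i).symm
      commf' := by
        rw [ShortComplex.LeftHomologyData.map_f']
        exact adj.counit.naturality h.f'
      commπ := adj.counit.naturality h.π }
  rw [quasiIsoAt_iff' _ (m - 1) m (m + 1) (by simp) (by simp)]
  have hq : ShortComplex.QuasiIso φ := γ.quasiIso_iff.2 hiso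
  exact hq

end TildeDerLib
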