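import Mathlib.Algebra.Homology.DerivedCategory.KProjective
import Mathlib.Algebra.Homology.DerivedCategory.HomologySequence
import Mathlib.Algebra.Homology.SingleHomology
import Mathlib.Algebra.Category.ModuleCat.Projective

/-!
# Maps out of `R[-m]` in the derived category of modules compute `H^m`
-/

set_option autoImplicit false

universe u w

open CategoryTheory CategoryTheory.Limits HomologicalComplex

namespace TildeDerLib

variable (R : Type u) [Ring R] [HasDerivedCategory.{w} (ModuleCat.{u} R)]

/-- The module `R` in degree `m`, as a complex. -/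
noncomputable abbrev genCx (m : ℤ) : CochainComplex (ModuleCat.{u} R) ℤ :=
  (single (ModuleCat.{u} R) (ComplexShape.up ℤ) m).obj (ModuleCat.of R R)

/-- The module `R` in degree `m`. -/
noncomputable abbrev gen (m : ℤ) : DerivedCategory (ModuleCat.{u} R) :=
  DerivedCategory.Q.obj (genCx R m)

theorem nonempty_shiftIso (m : ℤ) : Nonempty ((gen R m)⟦(1 : ℤ)⟧ ≅ gen R (m - 1)) :=
  ⟨(((DerivedCategory.Q (C := ModuleCat.{u} R)).commShiftIso (1 : ℤ)).symm.app _) ≪≫
    DerivedCategory.Q.mapIso
      (((CochainComplex.singleFunctors (ModuleCat.{u} R)).shiftIso 1 (m - 1) m (by omega)).app _)⟩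

/-- The identification `R ≅ H^m (R[-m])`. -/
noncomputable abbrev genH (m : ℤ) :
    ModuleCat.of R R ≅ (DerivedCategory.homologyFunctor (ModuleCat.{u} R) m).obj (gen R m) :=
  (singleObjHomologySelfIso (ComplexShape.up ℤ) m (ModuleCat.of R R)).symm ≪≫
    ((DerivedCategory.homologyFunctorFactors (ModuleCat.{u} R) m).app (genCx R m)).symm

variable {R}

/-- The map `Hom(R[-m], M) → H^m M`. -/
noncomputable abbrev ev {m : ℤ} {M : DerivedCategory (ModuleCat.{u} R)} (g : gen R m ⟶ M) :
    ModuleCat.of R R ⟶ (DerivedCategory.homologyFunctor (ModuleCat.{u} R) m).obj M :=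
  (genH R m).hom ≫ (DerivedCategory.homologyFunctor (ModuleCat.{u} R) m).map g

omit [HasDerivedCategory.{w} (ModuleCat.{u} R)] in
theorem genCx_isKProjective (m : ℤ) : (genCx R m).IsKProjective := by
  haveI : Projective (ModuleCat.of R R) :=
    ModuleCat.projective_of_free (Module.Basis.singleton Unit R)
  haveI : ∀ k, Projective ((genCx R m).X k) := fun k => by
    by_cases h : k = m
    · subst h
      exact Projective.of_iso (singleObjXSelf (ComplexShape.up ℤ) k (ModuleCat.of R R)).symm inferInstance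
    · exact (isZero_single_obj_X (ComplexShape.up ℤ) m _ k h).projective
  exact CochainComplex.isKProjective_of_projective _ m

theorem genCx_map_surjective (m : ℤ) (K : CochainComplex (ModuleCat.{u} R) ℤ) :
    Function.Surjective (DerivedCategory.Q.map : (genCx R m ⟶ K) → _) := by
  intro g
  haveI := genCx_isKProjective (R := R) m
  obtain ⟨g', hg'⟩ := (CochainComplex.IsKProjective.Qh_map_bijective (genCx R m)
    ((HomotopyCategory.quotient _ (ComplexShape.up ℤ)).obj K)).2 g
  obtain ⟨g'', rfl⟩ := (HomotopyCategory.quotient _ (ComplexShape.up ℤ)).map_surjective g'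
  exact ⟨g'', hg'⟩

/-- The cycle of a map out of `R[-m]`. -/
noncomputable abbrev cyc {m : ℤ} {K : CochainComplex (ModuleCat.{u} R) ℤ} (g : genCx R m ⟶ K) :
    ModuleCat.of R R ⟶ K.cycles m :=
  (singleObjCyclesSelfIso (ComplexShape.up ℤ) m (ModuleCat.of R R)).inv ≫ cyclesMap g m

theorem ev_Q_map {m : ℤ} {K : CochainComplex (ModuleCat.{u} R) ℤ} (g : genCx R m ⟶ K) :
    ev (DerivedCategory.Q.map g) =
      cyc g ≫ K.homologyπ m ≫
        ((DerivedCategory.homologyFunctorFactors (ModuleCat.{u} R) m).app K).inv := by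
  have e : (DerivedCategory.homologyFunctor (ModuleCat.{u} R) m).map (DerivedCategory.Q.map g) =
      (DerivedCategory.homologyFunctorFactors (ModuleCat.{u} R) m).hom.app (genCx R m) ≫
        homologyMap g m ≫ (DerivedCategory.homologyFunctorFactors (ModuleCat.{u} R) m).inv.app K := by
    rw [← Category.assoc]
    exact (Iso.eq_comp_inv ((DerivedCategory.homologyFunctorFactors (ModuleCat.{u} R) m).app K)).2
      ((DerivedCategory.homologyFunctorFactors (ModuleCat.{u} R) m).hom.naturality g)
  rw [ev, e]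
  simp only [genH, cyc, Iso.trans_hom, Iso.symm_hom, Iso.app_inv, Category.assoc]
  erw [Iso.inv_hom_id_app_assoc]
  rw [← homologyπ_naturality_assoc, ← Category.assoc
    (singleObjCyclesSelfIso (ComplexShape.up ℤ) m (ModuleCat.of R R)).inv,
    singleObjCyclesSelfIso_inv_homologyπ]
  rfl

theorem cyc_iCycles {m : ℤ} {K : CochainComplex (ModuleCat.{u} R) ℤ} (g : genCx R m ⟶ K) :
    cyc g ≫ K.iCycles m = (singleObjXSelf (ComplexShape.up ℤ) m (ModuleCat.of R R)).inv ≫ g.f m := by
  rw [cyc, Category.assoc, cyclesMap_i, ← Category.assoc, singleObjCyclesSelfIso_inv_iCycles]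

/-- A map out of `R[-m]` whose cycle is a boundary is zero. -/
theorem Q_map_eq_zero {m : ℤ} {K : CochainComplex (ModuleCat.{u} R) ℤ} (g : genCx R m ⟶ K)
    (s : ModuleCat.of R R ⟶ K.X (m - 1)) (hs : cyc g = s ≫ K.toCycles (m - 1) m) :
    DerivedCategory.Q.map g = 0 := by
  let h : ∀ i j, (ComplexShape.up ℤ).Rel j i → ((genCx R m).X i ⟶ K.X j) := fun i j hij =>
    if hi : i = m then ((genCx R m).XIsoOfEq hi).hom ≫
      (singleObjXSelf (ComplexShape.up ℤ) m (ModuleCat.of R R)).hom ≫ s ≫
        (K.XIsoOfEq (show m - 1 = j by subst hi; exact sub_eq_iff_eq_add.2 hij.symm)).hom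
    else 0
  have hg : g = Homotopy.nullHomotopicMap' h := from_single_hom_ext (by
    rw [Homotopy.nullHomotopicMap'_f (show (ComplexShape.up ℤ).Rel (m - 1) m by simp)
      (show (ComplexShape.up ℤ).Rel m (m + 1) from rfl) h, single_obj_d, zero_comp, zero_add,
      ← cancel_epi (singleObjXSelf (ComplexShape.up ℤ) m (ModuleCat.of R R)).inv, ← cyc_iCycles,
      hs, Category.assoc, toCycles_i]
    simp [h])
  have hh : Homotopy g 0 := hg ▸ Homotopy.nullHomotopy' h
  have h0 : (HomotopyCategory.quotient _ (ComplexShape.up ℤ)).map g = 0 :=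
    (HomotopyCategory.eq_of_homotopy _ _ hh).trans (Functor.map_zero _ _ _)
  have h1 : DerivedCategory.Qh.map ((HomotopyCategory.quotient _ (ComplexShape.up ℤ)).map g) = 0 :=
    (congrArg _ h0).trans (Functor.map_zero _ _ _)
  exact h1

theorem bijective_ev_Q (m : ℤ) (K : CochainComplex (ModuleCat.{u} R) ℤ) :
    Function.Bijective (fun g : gen R m ⟶ DerivedCategory.Q.obj K => ev g) := by
  haveI : Projective (ModuleCat.of R R) :=
    ModuleCat.projective_of_free (Module.Basis.singleton Unit R)
  constructor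
  · intro g₁ g₂ hg
    rw [← sub_eq_zero]
    obtain ⟨g, hg'⟩ := genCx_map_surjective m K (g₁ - g₂)
    rw [← hg']
    have h0 : cyc g ≫ K.homologyπ m = 0 := by
      refine (cancel_mono ((DerivedCategory.homologyFunctorFactors (ModuleCat.{u} R) m).app K).inv).1
        (((Category.assoc _ _ _).trans (ev_Q_map g).symm).trans ?_)
      refine Eq.trans ?_ zero_comp.symm
      rw [hg', ev, Functor.map_sub, Preadditive.comp_sub, sub_eq_zero]
      exact hg
    have hS : (ShortComplex.mk (K.toCycles (m - 1) m) (K.homologyπ m)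
        (K.toCycles_comp_homologyπ _ _)).Exact :=
      ShortComplex.exact_of_g_is_cokernel _ (K.homologyIsCokernel (m - 1) m (by simp))
    haveI : Projective (ModuleCat.of R R) := inferInstance
    exact Q_map_eq_zero g (hS.liftFromProjective (cyc g) h0) (hS.liftFromProjective_comp _ h0).symm
  · intro h
    let h' : ModuleCat.of R R ⟶ K.homology m := h ≫ ((DerivedCategory.homologyFunctorFactors (ModuleCat.{u} R) m).app K).hom
    let k := Projective.factorThru h' (K.homologyπ m)
    let g : genCx R m ⟶ K := mkHomFromSingle (k ≫ K.iCycles m) (fun i _ => by simp)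
    refine ⟨DerivedCategory.Q.map g, ?_⟩
    have hk : cyc g = k := by
      rw [← cancel_mono (K.iCycles m), cyc_iCycles]
      simp [g]
    change ev (DerivedCategory.Q.map g) = h
    rw [ev_Q_map, hk]
    simp [k, h']
    erw [Iso.hom_inv_id_app, Category.comp_id]

theorem ev_comp {m : ℤ} {M N : DerivedCategory (ModuleCat.{u} R)} (g : gen R m ⟶ M) (φ : M ⟶ N) :
    ev (g ≫ φ) = ev g ≫ (DerivedCategory.homologyFunctor (ModuleCat.{u} R) m).map φ := by
  rw [ev, Functor.map_comp, ← Category.assoc]

theorem bijective_ev (m : ℤ) (M : DerivedCategory (ModuleCat.{u} R)) :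
    Function.Bijective (fun g : gen R m ⟶ M => ev g) := by
  let e := DerivedCategory.Q.objObjPreimageIso M
  let b : ((DerivedCategory.homologyFunctor (ModuleCat.{u} R) m).obj
      (DerivedCategory.Q.obj (DerivedCategory.Q.objPreimage M))) ≅ _ :=
    (DerivedCategory.homologyFunctor (ModuleCat.{u} R) m).mapIso e
  have : (fun g : gen R m ⟶ M => ev g) =
      (fun t => t ≫ b.hom) ∘ (fun g => ev g) ∘ (fun g => g ≫ e.inv) := by
    funext g
    simp [ev, b]
  rw [this]
  exact (b.homToEquiv (Z := ModuleCat.of R R)).bijective.comp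
    ((bijective_ev_Q m _).comp (e.symm.homToEquiv (Z := gen R m)).bijective)

theorem bijective_comp_of_isIso (m : ℤ) {M N : DerivedCategory (ModuleCat.{u} R)} (φ : M ⟶ N)
    [IsIso ((DerivedCategory.homologyFunctor (ModuleCat.{u} R) m).map φ)] :
    Function.Bijective (fun g : gen R m ⟶ M => g ≫ φ) := by
  refine ((bijective_ev m N).of_comp_iff' _).1 ?_
  have : (fun g => ev g) ∘ (fun g : gen R m ⟶ M => g ≫ φ) =
      (fun t => t ≫ (DerivedCategory.homologyFunctor (ModuleCat.{u} R) m).map φ) ∘ fun g => ev g :=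
    funext fun g => ev_comp g φ
  rw [this]
  exact ((asIso ((DerivedCategory.homologyFunctor (ModuleCat.{u} R) m).map φ)).homToEquiv
    (Z := ModuleCat.of R R)).bijective.comp (bijective_ev m M)

theorem isIso_of_bijective_comp (m : ℤ) {M N : DerivedCategory (ModuleCat.{u} R)} (φ : M ⟶ N)
    (hφ : Function.Bijective (fun g : gen R m ⟶ M => g ≫ φ)) :
    IsIso ((DerivedCategory.homologyFunctor (ModuleCat.{u} R) m).map φ) := by
  let f := (DerivedCategory.homologyFunctor (ModuleCat.{u} R) m).map φ
  have hb : Function.Bijective (fun t : ModuleCat.of R R ⟶ _ => t ≫ f) := by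
    refine (Function.Bijective.of_comp_iff (g := fun g : gen R m ⟶ M => ev g) _ (bijective_ev m M)).1 ?_
    have : (fun t => t ≫ f) ∘ (fun g : gen R m ⟶ M => ev g) =
        (fun g => ev g) ∘ fun g => g ≫ φ := funext fun g => (ev_comp g φ).symm
    rw [this]
    exact (bijective_ev m N).comp hφ
  rw [ConcreteCategory.isIso_iff_bijective]
  refine ⟨fun x y hxy => ?_, fun z => ?_⟩
  · have := hb.1 (a₁ := ModuleCat.ofHom (LinearMap.toSpanSingleton R _ x))
      (a₂ := ModuleCat.ofHom (LinearMap.toSpanSingleton R _ y))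
      (ModuleCat.hom_ext (LinearMap.ext_ring (by simpa [f] using hxy)))
    simpa using congrArg (fun t => t.hom (1 : R)) this
  · obtain ⟨t, ht⟩ := hb.2 (ModuleCat.ofHom (LinearMap.toSpanSingleton R _ z))
    exact ⟨t.hom 1, by simpa [f] using congrArg (fun t => t.hom (1 : R)) ht⟩

end TildeDerLib
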