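import Groth.Agent.QRlimLib.Rlim

/-!
# Maps into the derived limit of an eventually stable tower
-/

set_option autoImplicit false

universe v u

open CategoryTheory CategoryTheory.Limits Pretriangulated

namespace TildeDerLib

variable {C : Type u} [Category.{v} C] [Preadditive C] [HasZeroObject C] [HasShift C ℤ]
  [∀ n : ℤ, (shiftFunctor C n).Additive] [Pretriangulated C]
  {K : ℕ → C} (t : ∀ n, K (n + 1) ⟶ K n) [HasProduct K] {L : C} {a : L ⟶ ∏ᶜ K}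
  {c : ∏ᶜ K ⟶ L⟦(1 : ℤ)⟧}

/-- If maps from `W` and `W⟦1⟧` to a tower are eventually stable, maps from `W` to its derived limit
agree with the maps to a stage in the stable range. -/
theorem bijective_comp_π
    (hT : Triangle.mk a (Pi.lift fun n => Pi.π K n - Pi.π K (n + 1) ≫ t n) c ∈ distinguishedTriangles)
    (W : C) (N : ℕ)
    (h₀ : ∀ n, N ≤ n → Function.Bijective (fun g : W ⟶ K (n + 1) => g ≫ t n))
    (h₁ : ∀ n, N ≤ n → Function.Surjective (fun g : W⟦(1 : ℤ)⟧ ⟶ K (n + 1) => g ≫ t n)) :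
    Function.Bijective (fun g : W ⟶ L => g ≫ a ≫ Pi.π K N) := by
  let δ : ∏ᶜ K ⟶ ∏ᶜ K := Pi.lift fun n => Pi.π K n - Pi.π K (n + 1) ≫ t n
  have hδ : ∀ {Z : C} (f : Z ⟶ ∏ᶜ K) (n : ℕ),
      f ≫ δ ≫ Pi.π K n = f ≫ Pi.π K n - (f ≫ Pi.π K (n + 1)) ≫ t n := fun f n => by
    simp [δ]
  have haδ : a ≫ δ = 0 := comp_distTriang_mor_zero₁₂ _ hT
  have hδc : δ ≫ c = 0 := comp_distTriang_mor_zero₂₃ _ hT
  let τ : ∀ n, (W ⟶ K (n + 1)) →+ (W ⟶ K n) := fun n => Preadditive.rightComp W (t n)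
  constructor
  · intro g₁ g₂ hg
    rw [← sub_eq_zero]
    generalize hgd : g₁ - g₂ = g
    have hN : g ≫ a ≫ Pi.π K N = 0 := by
      rw [← hgd, Preadditive.sub_comp, sub_eq_zero]
      exact hg
    have hcomp : ∀ n, g ≫ a ≫ Pi.π K n - τ n (g ≫ a ≫ Pi.π K (n + 1)) = 0 := fun n => by
      have := hδ (g ≫ a) n
      rw [Category.assoc, ← Category.assoc a δ, haδ, zero_comp, comp_zero] at this
      simpa [τ, Preadditive.rightComp] using this.symm
    have h0 := QRlimLib.eq_zero_of_compatible N (fun n => W ⟶ K n) τ (fun n hn => (h₀ n hn).1)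
      (fun n => g ≫ a ≫ Pi.π K n) hcomp hN
    have hga : g ≫ a = 0 := Pi.hom_ext _ _ fun n => by simpa using h0 n
    obtain ⟨h, hh⟩ : ∃ h : W⟦(1 : ℤ)⟧ ⟶ ∏ᶜ K, g⟦(1 : ℤ)⟧' = h ≫ c :=
      Triangle.coyoneda_exact₁ _ hT (g⟦(1 : ℤ)⟧') (by
        change g⟦(1 : ℤ)⟧' ≫ a⟦(1 : ℤ)⟧' = 0
        rw [← Functor.map_comp, hga, Functor.map_zero])
    obtain ⟨x, hx⟩ := QRlimLib.exists_sub_eq N (fun n => W⟦(1 : ℤ)⟧ ⟶ K n)
      (fun n => Preadditive.rightComp _ (t n)) h₁ (fun n => h ≫ Pi.π K n)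
    have hxh : Pi.lift x ≫ δ = h := Pi.hom_ext _ _ fun n => by
      rw [Category.assoc, hδ]
      simpa [Preadditive.rightComp] using hx n
    refine (shiftFunctor C (1 : ℤ)).map_injective ?_
    rw [hh, ← hxh, Category.assoc, hδc, comp_zero, Functor.map_zero]
  · intro y
    obtain ⟨f, hf, hfN⟩ := QRlimLib.exists_compatible N (fun n => W ⟶ K n) τ h₀ y
    have hfδ : Pi.lift f ≫ δ = 0 := Pi.hom_ext _ _ fun n => by
      rw [Category.assoc, hδ, zero_comp]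
      simpa [τ, Preadditive.rightComp] using hf n
    obtain ⟨g, hg⟩ : ∃ g : W ⟶ L, Pi.lift f = g ≫ a := Triangle.coyoneda_exact₂ _ hT _ hfδ
    refine ⟨g, ?_⟩
    change g ≫ a ≫ Pi.π K N = y
    rw [← Category.assoc, ← hg]
    simp [hfN]

end TildeDerLib
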