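import Groth.Agent.QRlimLib.Unbounded
import Groth.Agent.TildeDerLib.Gen
import Groth.Agent.TildeDerLib.Tower
import Groth.Agent.TildeDerLib.Counit
import Groth.Agent.DerLib.ExactHomology
import Groth.Prelude.Def_DCoh2

/-!
# `D(R) ≌ D_QCoh(Spec R)`
-/

set_option autoImplicit false
set_option linter.style.haveILetI false

universe u

open CategoryTheory CategoryTheory.Limits AlgebraicGeometry Groth.Agent.DerLib

attribute [local instance] HasDerivedCategory.standard

namespace TildeDerLib

variable (R : CommRingCat.{u})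

/-- Global sections. -/
noncomputable abbrev gammaF : (Spec (CommRingCat.of R)).Modules ⥤ ModuleCat.{u} R :=
  moduleSpecΓFunctor

/-- The tilde-sections adjunction. -/
noncomputable abbrev adjT : tilde.functor R ⊣ gammaF R := tilde.adjunction

instance additive_gammaF : (gammaF R).Additive := (adjT R).right_adjoint_additive

instance preservesFiniteColimits_tilde : PreservesFiniteColimits (tilde.functor R) :=
  haveI : PreservesColimitsOfSize.{0, 0} (tilde.functor R) := (adjT R).leftAdjoint_preservesColimits
  PreservesColimitsOfSize.preservesFiniteColimits _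

/-- The functor inducing `RΓ`. -/
noncomputable abbrev gammaKh :
    HomotopyCategory (Spec (CommRingCat.of R)).Modules (ComplexShape.up ℤ) ⥤
      DerivedCategory (ModuleCat.{u} R) :=
  (gammaF R).mapHomotopyCategory (ComplexShape.up ℤ) ⋙ DerivedCategory.Qh

instance hasRightDerived_gammaKh : (gammaKh R).HasRightDerivedFunctor
    (HomotopyCategory.quasiIso (Spec (CommRingCat.of R)).Modules (ComplexShape.up ℤ)) :=
  KInjDerived.hasRightDerivedFunctor _ KFlatLib.enoughKInj_modules

/-- `RΓ`. -/
noncomputable def RGamma : DCoh.D (Spec (CommRingCat.of R)) ⥤ DerivedCategory (ModuleCat.{u} R) :=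
  (gammaKh R).totalRightDerived DerivedCategory.Qh
    (HomotopyCategory.quasiIso (Spec (CommRingCat.of R)).Modules (ComplexShape.up ℤ))

/-- The unit of `RΓ`. -/
noncomputable def RGammaUnit : gammaKh R ⟶ DerivedCategory.Qh ⋙ RGamma R :=
  (gammaKh R).totalRightDerivedUnit DerivedCategory.Qh
    (HomotopyCategory.quasiIso (Spec (CommRingCat.of R)).Modules (ComplexShape.up ℤ))

instance isRightDerived_RGamma : (RGamma R).IsRightDerivedFunctor (RGammaUnit R)
    (HomotopyCategory.quasiIso (Spec (CommRingCat.of R)).Modules (ComplexShape.up ℤ)) :=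
  inferInstanceAs (((gammaKh R).totalRightDerived _ _).IsRightDerivedFunctor
    ((gammaKh R).totalRightDerivedUnit _ _) _)

variable [PreservesFiniteLimits (tilde.functor R)]

/-- The derived tilde-sections adjunction. -/
noncomputable abbrev adjD : DCoh.tildeD R ⊣ RGamma R :=
  KInjDerived.derivedAdj (adjT R) (RGamma R) (RGammaUnit R) KFlatLib.enoughKInj_modules

/-- Cohomology of `tildeD`. -/
noncomputable abbrev tildeHIso (m : ℤ) (M : DerivedCategory (ModuleCat.{u} R)) :
    DCoh.HD ((DCoh.tildeD R).obj M) m ≅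
      (tilde.functor R).obj ((DerivedCategory.homologyFunctor _ m).obj M) :=
  (ExactHomology.homologyIso (tilde.functor R) m).app M

theorem isQCohD_tildeD (M : DerivedCategory (ModuleCat.{u} R)) :
    DCoh.IsQCohD ((DCoh.tildeD R).obj M) := fun m =>
  @QCohLib.isQCoh_of_iso _ _ _ (tildeHIso R m M).symm inferInstance

theorem isIso_homology_iff {M N : DerivedCategory (ModuleCat.{u} R)} (φ : M ⟶ N) (m : ℤ) :
    IsIso ((DerivedCategory.homologyFunctor _ m).map ((DCoh.tildeD R).map φ)) ↔
      IsIso ((DerivedCategory.homologyFunctor _ m).map φ) :=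
  (NatIso.isIso_map_iff (ExactHomology.homologyIso (tilde.functor R) m) φ).trans
    ⟨fun h => @isIso_of_fully_faithful _ _ _ _ (tilde.functor R) _ _ _ _ _ h,
      fun _ => inferInstanceAs (IsIso ((tilde.functor R).map _))⟩

/-- The counit is an isomorphism on bounded below objects with quasi-coherent cohomology. -/
theorem isIso_counit_of_isGE {E : DCoh.D (Spec (CommRingCat.of R))} (hE : DCoh.IsQCohD E) (a : ℤ)
    [E.IsGE a] : IsIso ((adjD R).counit.app E) := by
  obtain ⟨J, hJ, hfl, hge, ⟨e⟩⟩ := QRlimLib.exists_kInjective_bounded E a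
  haveI := hJ
  haveI := hge
  rw [NatTrans.isIso_app_iff_of_iso _ (e ≪≫ ((DerivedCategory.quotientCompQhIso _).app J).symm)]
  have hq : ∀ q, Coh.IsQCoh (J.homology q) := fun q =>
    @QCohLib.isQCoh_of_iso _ _ _ ((DerivedCategory.homologyFunctor _ q).mapIso e ≪≫
      (DerivedCategory.homologyFunctorFactors _ q).app J) (hE q)
  haveI := KInjDerived.isRightDerived_comp (G := tilde.functor R) (RGamma R) (RGammaUnit R)
    KFlatLib.enoughKInj_modules
  haveI := KInjDerived.isIso_app (RGamma R) (RGammaUnit R) KFlatLib.enoughKInj_modules J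
  haveI : QuasiIso ((KInjDerived.mapHomologicalComplexAdj (adjT R)
      (ComplexShape.up ℤ)).counit.app J) := ⟨fun m => by
    have hA := QRlimLib.affExact hfl a hq (isAffineOpen_top (Spec (CommRingCat.of R))) m
    haveI : IsIso ((adjT R).counit.app (J.homology m)) :=
      @Scheme.Modules.isIso_fromTildeΓ_of_isQuasicoherent _ (J.homology m) (hq m)
    refine quasiIsoAt_counit (adjT R) J m ?_ ((ModuleCat.epi_iff_surjective _).2 hA.surj)
    rw [ShortComplex.moduleCat_exact_iff]
    exact hA.exact⟩
  have key := (KInjDerived.mapHomotopyCategoryAdj (adjT R) (ComplexShape.up ℤ)).derivedε_fac_app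
    (HomotopyCategory.quasiIso (Spec (CommRingCat.of R)).Modules (ComplexShape.up ℤ))
    (tilde.functor R).mapDerivedCategoryFactorsh.hom (RGammaUnit R)
    ((HomotopyCategory.quotient (Spec (CommRingCat.of R)).Modules (ComplexShape.up ℤ)).obj J)
  have : IsIso (DerivedCategory.Qh.map
      ((KInjDerived.mapHomotopyCategoryAdj (adjT R) (ComplexShape.up ℤ)).counit.app
        ((HomotopyCategory.quotient (Spec (CommRingCat.of R)).Modules (ComplexShape.up ℤ)).obj J))) :=
    Localization.inverts DerivedCategory.Qh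
      (HomotopyCategory.quasiIso (Spec (CommRingCat.of R)).Modules (ComplexShape.up ℤ)) _
      ((HomotopyCategory.quotient_map_mem_quasiIso_iff _).2
        ((HomologicalComplex.mem_quasiIso_iff _).2 ‹_›))
  exact IsIso.of_isIso_fac_left key

theorem isIso_homology_tower {E : DCoh.D (Spec (CommRingCat.of R))} (hE : DCoh.IsQCohD E) (n : ℕ)
    (m : ℤ) (hm : -(n : ℤ) ≤ m) :
    IsIso ((DerivedCategory.homologyFunctor _ m).map
      ((RGamma R).map (CohCx.truncTowerMap E n))) := by
  rw [← isIso_homology_iff R]
  haveI := isIso_counit_of_isGE R (QRlimLib.isQCohD_trunc hE n) (-(n : ℤ))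
  haveI := isIso_counit_of_isGE R (QRlimLib.isQCohD_trunc hE (n + 1)) (-((n + 1 : ℕ) : ℤ))
  haveI := QRlimLib.isIso_HD_truncMap E n m hm
  have e : (DCoh.tildeD R).map ((RGamma R).map (CohCx.truncTowerMap E n)) =
      (adjD R).counit.app (CohCx.truncTower E (n + 1)) ≫ CohCx.truncTowerMap E n ≫
        inv ((adjD R).counit.app (CohCx.truncTower E n)) := by
    rw [← Category.assoc, IsIso.eq_comp_inv]
    exact (adjD R).counit.naturality _
  rw [e, Functor.map_comp, Functor.map_comp]
  infer_instance

theorem bijective_tower {E : DCoh.D (Spec (CommRingCat.of R))} (hE : DCoh.IsQCohD E)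
    {W : DCoh.D (Spec (CommRingCat.of R))} (m : ℤ) (eW : (DCoh.tildeD R).obj (gen R m) ≅ W) (n : ℕ)
    (hm : -(n : ℤ) ≤ m) :
    Function.Bijective (fun g : W ⟶ CohCx.truncTower E (n + 1) => g ≫ CohCx.truncTowerMap E n) := by
  haveI := isIso_homology_tower R hE n m hm
  let q : ∀ M : DCoh.D (Spec (CommRingCat.of R)), (W ⟶ M) ≃ (gen R m ⟶ (RGamma R).obj M) :=
    fun M => (eW.homFromEquiv (Z := M)).symm.trans ((adjD R).homEquiv _ _)
  refine ((q _).bijective.of_comp_iff' _).1 ?_
  have : (q _) ∘ (fun g : W ⟶ CohCx.truncTower E (n + 1) => g ≫ CohCx.truncTowerMap E n) =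
      (fun g => g ≫ (RGamma R).map (CohCx.truncTowerMap E n)) ∘ q _ := funext fun g => by
    change (adjD R).homEquiv _ _ (eW.hom ≫ g ≫ _) = (adjD R).homEquiv _ _ (eW.hom ≫ g) ≫ _
    rw [← Category.assoc, Adjunction.homEquiv_naturality_right]
  rw [this]
  exact (bijective_comp_of_isIso m _).comp (q _).bijective

/-- The counit is an isomorphism on all objects with quasi-coherent cohomology. -/
theorem isIso_counit {E : DCoh.D (Spec (CommRingCat.of R))} (hE : DCoh.IsQCohD E) :
    IsIso ((adjD R).counit.app E) := by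
  rw [DerivedCategory.isIso_iff]
  intro m
  let N : ℕ := (1 - m).toNat
  haveI := QRlimLib.hasProduct_of_isGE (CohCx.truncTower E)
  obtain ⟨c, hc⟩ := QRlimLib.exists_isRlimVia hE
  let W := (DCoh.tildeD R).obj (gen R m)
  obtain ⟨es⟩ := nonempty_shiftIso R m
  have hb : Function.Bijective (fun g : W ⟶ E => g ≫ CohCx.toTruncTower E N) := by
    have := bijective_comp_π (CohCx.truncTowerMap E) hc W N
      (fun n hn => bijective_tower R hE m (Iso.refl W) n (by omega))
      (fun n hn => (bijective_tower R hE (m - 1)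
        ((DCoh.tildeD R).mapIso es.symm ≪≫ ((DCoh.tildeD R).commShiftIso (1 : ℤ)).app (gen R m))
        n (by omega)).2)
    simpa [Pi.lift_π] using this
  haveI hH : IsIso ((DerivedCategory.homologyFunctor _ m).map
      ((DCoh.tildeD R).map ((RGamma R).map (CohCx.toTruncTower E N)))) := by
    rw [isIso_homology_iff R]
    refine isIso_of_bijective_comp m _ ?_
    refine (Function.Bijective.of_comp_iff _ ((adjD R).homEquiv (gen R m) E).bijective).1 ?_
    have : (fun g => g ≫ (RGamma R).map (CohCx.toTruncTower E N)) ∘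
        ((adjD R).homEquiv (gen R m) E) =
        ((adjD R).homEquiv _ _) ∘ fun g : W ⟶ E => g ≫ CohCx.toTruncTower E N := funext fun g =>
      ((adjD R).homEquiv_naturality_right g _).symm
    rw [this]
    exact ((adjD R).homEquiv _ _).bijective.comp hb
  haveI := isIso_counit_of_isGE R (QRlimLib.isQCohD_trunc hE N) (-(N : ℤ))
  haveI := QRlimLib.isIso_HD_toTrunc E N m (by omega)
  have w : (DerivedCategory.homologyFunctor _ m).map ((adjD R).counit.app E) ≫
      (DerivedCategory.homologyFunctor _ m).map (CohCx.toTruncTower E N) =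
      (DerivedCategory.homologyFunctor _ m).map
        ((DCoh.tildeD R).map ((RGamma R).map (CohCx.toTruncTower E N))) ≫
      (DerivedCategory.homologyFunctor _ m).map ((adjD R).counit.app (CohCx.truncTower E N)) := by
    rw [← Functor.map_comp, ← Functor.map_comp]
    exact congrArg _ ((adjD R).counit.naturality _).symm
  haveI : IsIso ((DerivedCategory.homologyFunctor _ m).map ((adjD R).counit.app E) ≫
      (DerivedCategory.homologyFunctor _ m).map (CohCx.toTruncTower E N)) := by
    rw [w]
    infer_instance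
  exact IsIso.of_isIso_comp_right _ ((DerivedCategory.homologyFunctor _ m).map (CohCx.toTruncTower E N))

instance isIso_unit : IsIso (adjD R).unit := by
  rw [NatTrans.isIso_iff_isIso_app]
  intro M
  haveI := isIso_counit R (isQCohD_tildeD R M)
  haveI : IsIso ((DCoh.tildeD R).map ((adjD R).unit.app M)) := by
    haveI : IsIso ((DCoh.tildeD R).map ((adjD R).unit.app M) ≫
        (adjD R).counit.app ((DCoh.tildeD R).obj M)) := by
      rw [(adjD R).left_triangle_components M]
      exact (Iso.refl _).isIso_hom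
    exact IsIso.of_isIso_comp_right _ ((adjD R).counit.app ((DCoh.tildeD R).obj M))
  rw [DerivedCategory.isIso_iff]
  intro m
  rw [← isIso_homology_iff R]
  infer_instance

theorem isQCohD_iff (K : DCoh.D (Spec (CommRingCat.of R))) :
    DCoh.IsQCohD K ↔ ∃ M, Nonempty ((DCoh.tildeD R).obj M ≅ K) :=
  ⟨fun h => haveI := isIso_counit R h; ⟨_, ⟨asIso ((adjD R).counit.app K)⟩⟩,
    fun ⟨M, ⟨e⟩⟩ => KFlatLib.isQCohD_iso e (isQCohD_tildeD R M)⟩

end TildeDerLib
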