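import Groth.Agent.TildeDerLib.Affine
import Groth.Agent.QRlimLib.AcyclicPush
import Groth.Agent.QCohLib.Push
import Groth.Agent.RpushLib.Comp
import Groth.Agent.RpushLib.Ab
import Groth.Agent.SweepSix.TildePull
import Groth.Prelude.Def_DDual2

/-!
# Direct image of tilde along a morphism of affine schemes
-/

set_option autoImplicit false
set_option linter.style.haveILetI false

universe u

open CategoryTheory CategoryTheory.Limits AlgebraicGeometry

attribute [local instance] HasDerivedCategory.standard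

namespace TildeDerLib

theorem isZero_Rpush_affine {X Y : Scheme.{u}} (f : X ⟶ Y) [IsAffineHom f]
    [HasInjectiveResolutions X.Modules] (M : X.Modules) [Coh.IsQCoh M] (i : ℕ) (hi : 0 < i) :
    IsZero ((Coh.Rpush f i).obj M) := by
  obtain ⟨e⟩ := RpushLib.nonempty_toAb_rpush_iso f M i
  exact RpushLib.isZero_of_isZero_toAb ((QCohLib.isZero_RpushAb f M i hi).of_iso e)

variable {R S : CommRingCat.{u}} (φ : R ⟶ S)

/-- `f_*` of tilde is tilde of restriction of scalars. -/
theorem nonempty_pushTildeIso :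
    Nonempty (tilde.functor S ⋙ Scheme.Modules.pushforward (Spec.map φ) ≅
      ModuleCat.restrictScalars φ.hom ⋙ tilde.functor R) := by
  haveI : ∀ N : ModuleCat.{u} S, IsIso (((tilde.adjunction (R := R)).counit).app
      ((Scheme.Modules.pushforward (Spec.map φ)).obj ((tilde.functor S).obj N))) := fun N =>
    @isIso_fromTildeΓ_pushforward R S φ ((tilde.functor S).obj N) inferInstance
  let F := tilde.functor S ⋙ Scheme.Modules.pushforward (Spec.map φ)
  haveI : IsIso (Functor.whiskerLeft F (tilde.adjunction (R := R)).counit) := by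
    rw [NatTrans.isIso_iff_isIso_app]
    exact this
  exact ⟨F.rightUnitor.symm ≪≫ (asIso (Functor.whiskerLeft F (tilde.adjunction (R := R)).counit)).symm ≪≫
    (Functor.associator _ _ _).symm ≪≫
    Functor.isoWhiskerRight (Functor.associator _ _ _ ≪≫
      Functor.isoWhiskerLeft _ (SweepSix.pushforwardCompΓIso φ) ≪≫
      (Functor.associator _ _ _).symm ≪≫
      Functor.isoWhiskerRight (asIso (tilde.adjunction (R := S)).unit).symm _ ≪≫
      Functor.leftUnitor _) (tilde.functor R)⟩

variable [PreservesFiniteLimits (tilde.functor R)] [PreservesFiniteLimits (tilde.functor S)]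
  [DCoh.HasRpush (Spec.map φ)]

/-- `tildeD` of a complex. -/
noncomputable abbrev tildeCx (T : CommRingCat.{u}) :
    CochainComplex (ModuleCat.{u} T) ℤ ⥤ CochainComplex (Spec (CommRingCat.of T)).Modules ℤ :=
  (tilde.functor T).mapHomologicalComplex (ComplexShape.up ℤ)

theorem nonempty_rpushTildeDIso :
    Nonempty (DCoh.tildeD S ⋙ DCoh.Rpush (Spec.map φ) ≅
      (ModuleCat.restrictScalars.{u} φ.hom).mapDerivedCategory ⋙ DCoh.tildeD R) := by
  haveI : HasInjectiveResolutions (Spec S).Modules :=
    haveI : EnoughInjectives (Spec S).Modules := IsGrothendieckAbelian.enoughInjectives.{u}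
    inferInstance
  obtain ⟨θ⟩ := nonempty_pushTildeIso φ
  let f := Spec.map φ
  let qX := HomotopyCategory.quotient (Spec S).Modules (ComplexShape.up ℤ)
  let ν := Functor.whiskerLeft (tildeCx S ⋙ qX) (QRlimLib.rpushUnit f)
  haveI : IsIso ν := by
    rw [NatTrans.isIso_iff_isIso_app]
    intro K
    exact QRlimLib.isIso_rpushUnit f ((tildeCx S).obj K)
      (fun n => inferInstanceAs (((tilde.functor S).obj (K.X n)).IsQuasicoherent))
      (fun n i hi => @isZero_Rpush_affine _ _ f inferInstance _ _
        (inferInstanceAs (((tilde.functor S).obj (K.X n)).IsQuasicoherent)) i hi)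
  let e₀ : DerivedCategory.Q ⋙ DCoh.tildeD S ⋙ DCoh.Rpush f ≅
      (tildeCx S ⋙ qX) ⋙ DerivedCategory.Qh ⋙ DCoh.Rpush f :=
    (Functor.associator _ _ _).symm ≪≫
      Functor.isoWhiskerRight ((tilde.functor S).mapDerivedCategoryFactors ≪≫
        Functor.isoWhiskerLeft _ (DerivedCategory.quotientCompQhIso (Spec S).Modules).symm ≪≫
        (Functor.associator _ _ _).symm) _ ≪≫ Functor.associator _ _ _
  let e₁ : (tildeCx S ⋙ qX) ⋙ DCoh.pushKh f ≅
      tildeCx S ⋙ (Scheme.Modules.pushforward f).mapHomologicalComplex (ComplexShape.up ℤ) ⋙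
        DerivedCategory.Q :=
    Functor.associator _ _ _ ≪≫ Functor.isoWhiskerLeft _ ((Functor.associator _ _ _).symm ≪≫
      Functor.isoWhiskerRight
        ((Scheme.Modules.pushforward f).mapHomotopyCategoryFactors (ComplexShape.up ℤ)) _ ≪≫
      Functor.associator _ _ _ ≪≫
      Functor.isoWhiskerLeft _ (DerivedCategory.quotientCompQhIso (Spec R).Modules))
  let η : tildeCx S ⋙ (Scheme.Modules.pushforward f).mapHomologicalComplex (ComplexShape.up ℤ) ≅
      (ModuleCat.restrictScalars.{u} φ.hom).mapHomologicalComplex (ComplexShape.up ℤ) ⋙ tildeCx R :=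
    NatIso.ofComponents
      (fun K => HomologicalComplex.Hom.isoOfComponents (fun i => θ.app (K.X i))
        (fun i j _ => (θ.hom.naturality (K.d i j)).symm))
      (fun {K L} g => by
        ext i : 1
        exact θ.hom.naturality (g.f i))
  let e₂ : DerivedCategory.Q ⋙ (ModuleCat.restrictScalars.{u} φ.hom).mapDerivedCategory ⋙ DCoh.tildeD R ≅
      ((ModuleCat.restrictScalars.{u} φ.hom).mapHomologicalComplex (ComplexShape.up ℤ) ⋙ tildeCx R) ⋙
        DerivedCategory.Q :=
    (Functor.associator _ _ _).symm ≪≫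
      Functor.isoWhiskerRight (ModuleCat.restrictScalars.{u} φ.hom).mapDerivedCategoryFactors _ ≪≫
      Functor.associator _ _ _ ≪≫
      Functor.isoWhiskerLeft _ (tilde.functor R).mapDerivedCategoryFactors ≪≫
      (Functor.associator _ _ _).symm
  let L₁ := DCoh.tildeD S ⋙ DCoh.Rpush f
  let L₂ := (ModuleCat.restrictScalars.{u} φ.hom).mapDerivedCategory ⋙ DCoh.tildeD R
  letI : Localization.Lifting DerivedCategory.Q
      (HomologicalComplex.quasiIso (ModuleCat.{u} S) (ComplexShape.up ℤ))
      (DerivedCategory.Q ⋙ L₁) L₁ := ⟨Iso.refl _⟩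
  letI : Localization.Lifting DerivedCategory.Q
      (HomologicalComplex.quasiIso (ModuleCat.{u} S) (ComplexShape.up ℤ))
      (DerivedCategory.Q ⋙ L₂) L₂ := ⟨Iso.refl _⟩
  exact ⟨Localization.liftNatIso DerivedCategory.Q
    (HomologicalComplex.quasiIso (ModuleCat.{u} S) (ComplexShape.up ℤ))
    (DerivedCategory.Q ⋙ L₁) (DerivedCategory.Q ⋙ L₂) L₁ L₂
    (e₀ ≪≫ (asIso ν).symm ≪≫ e₁ ≪≫ (Functor.associator _ _ _).symm ≪≫
      Functor.isoWhiskerRight η DerivedCategory.Q ≪≫ e₂.symm)⟩

end TildeDerLib
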